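import Groth.Agent.CExt24.BC0Main
import Groth.Agent.CExt24.Models
import Groth.Agent.CurveBC.Main
import Groth.Agent.CurveVA.Vanish
import Groth.Agent.JacTheta.RelDim
import Groth.Agent.CanonDual.TopDiff
import Groth.Agent.GrpOmega.Shear
import Groth.Agent.H23.Seesaw
import Groth.Agent.CurveDual15.TorsionFree

/-! Smooth families of curves: the fibres, the differentials, degrees and vanishing on the fibres. -/

noncomputable section

set_option linter.style.haveILetI false
set_option linter.unusedSectionVars false
set_option backward.isDefEq.respectTransparency false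
set_option backward.isDefEq.respectTransparency.types false
set_option maxHeartbeats 800000

universe u

open CategoryTheory CategoryTheory.Limits AlgebraicGeometry TopologicalSpace Opposite

namespace Groth.Agent.LS17.RelCurve

open Groth.Agent Groth.Agent.H23.PicMul

variable {X S : Scheme.{u}} (f : X ⟶ S)

/-- The pullback of a power is the power of the pullback. -/
theorem nonempty_pullback_tensorPow {Y : Scheme.{u}} (g : Y ⟶ X) {L : X.Modules} :
    ∀ n : ℕ, Nonempty ((Scheme.Modules.pullback g).obj (CohB1.tensorPow L n) ≅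
      CohB1.tensorPow ((Scheme.Modules.pullback g).obj L) n)
  | 0 => PicClLib.nonempty_pullback_structureModule g
  | n + 1 => by
    obtain ⟨e⟩ := nonempty_pullback_tensorPow g (L := L) n
    exact ⟨((KFlatLib.pullTensorBiIso g).app (CohB1.tensorPow L n)).app L ≪≫
      (DCoh.tensorBi.mapIso e).app _⟩

section Fibres

variable [IsProper f] [Smooth f] [GeometricallyConnected f]
  (hdim : ∀ s : S, topologicalKrullDim ↥(f.fiber s) = 1)

/-- A fibre over its residue field. -/
@[reducible] def fibreOver (s : S) : (f.fiber s).Over (Spec (CommRingCat.of (S.residueField s))) :=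
  ⟨f.fiberToSpecResidueField s⟩

attribute [local instance] fibreOver

instance (s : S) : IsProper (f.fiber s ↘ Spec (CommRingCat.of (S.residueField s))) :=
  (MorphismProperty.pullback_snd f (S.fromSpecResidueField s) ‹IsProper f› :)

instance (s : S) : Smooth (f.fiber s ↘ Spec (CommRingCat.of (S.residueField s))) :=
  (MorphismProperty.pullback_snd f (S.fromSpecResidueField s) ‹Smooth f› :)

instance (s : S) : GeometricallyConnected (f.fiber s ↘ Spec (CommRingCat.of (S.residueField s))) :=
  (MorphismProperty.pullback_snd f (S.fromSpecResidueField s) ‹GeometricallyConnected f› :)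

theorem h0_fibre (s : S) :
    Module.finrank (S.residueField s) (Coh.HH (f.fiber s) (Coh.structureModule (f.fiber s)) 0) = 1 :=
  CurveBC.finrank_h0_of_geometricallyConnected (S.residueField s) (f.fiber s)

theorem isIntegral_fibre (s : S) : IsIntegral (f.fiber s) :=
  CurveBC.isIntegral_of_h0 (S.residueField s) (f.fiber s) (h0_fibre f s)

include hdim in
theorem fibreDimAt_eq_one (x : X) (hx : IsClosed ({f.asFiber x} : Set ↥(f.fiber (f x)))) :
    FlatMor.fibreDimAt f x = 1 := by
  haveI := isIntegral_fibre f (f x)
  exact JacTheta.localDim_eq_one_of_isClosed (hdim _) hx fun h =>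
    CurveEmbed.genericPoint_not_closed (hdim _) (h ▸ hx)

include hdim in
/-- A smooth family of curves has relative dimension one. -/
theorem smoothOfRelativeDimension_one : SmoothOfRelativeDimension 1 f := by
  have key : ∀ x : X, ∃ V : X.Opens, x ∈ V ∧ SmoothOfRelativeDimension 1 (V.ι ≫ f) := by
    intro x
    obtain ⟨V, j, v, n, hj, rfl, hn⟩ := AlgSpDec.SmoothLocDim.exists_smoothOfRelativeDimension_nhd f x
    haveI := LocallyOfFiniteType.jacobsonSpace (f.fiberToSpecResidueField (f (j v)))
    have hopen : IsOpen ((f.fiberι (f (j v))).base ⁻¹' (Set.range j)) :=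
      (f.fiberι (f (j v))).continuous.isOpen_preimage _ j.isOpenEmbedding.isOpen_range
    obtain ⟨y, hyV, hyc⟩ := nonempty_inter_closedPoints
      (Z := (f.fiberι (f (j v))).base ⁻¹' (Set.range j))
      ⟨f.asFiber (j v), ⟨v, (f.fiberι_asFiber (j v)).symm⟩⟩ hopen.isLocallyClosed
    obtain ⟨v', hv'⟩ := hyV
    have hfy : f (f.fiberι (f (j v)) y) = f (j v) := by
      have h := congr($(f.fiber_fac (f (j v))) y)
      rw [Scheme.Hom.comp_apply, Scheme.Hom.comp_apply, Scheme.fromSpecResidueField_apply] at h
      exact h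
    have h2 : ∀ (t : S), f (j v') = t → ∀ y : ↥(f.fiber t), f.fiberι t y = j v' →
        IsClosed ({y} : Set ↥(f.fiber t)) → FlatMor.fibreDimAt f (j v') = 1 := by
      rintro t rfl y hy hc
      have : y = f.asFiber (j v') :=
        (f.fiberι (f (j v'))).isEmbedding.injective (hy.trans (f.fiberι_asFiber _).symm)
      exact fibreDimAt_eq_one f hdim (j v') (this ▸ hc)
    have h3 := h2 (f (j v)) ((congrArg f hv').trans hfy) y hv'.symm (mem_closedPoints_iff.1 hyc)
    rw [← AlgSpDec.fibreDimAt_etale_comp j f v', Groth.Agent.S2768.result n (j ≫ f) v'] at h3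
    obtain rfl : n = 1 := by exact_mod_cast h3
    refine ⟨j.opensRange, ⟨v, rfl⟩, ?_⟩
    have e : j.opensRange.ι = j.isoOpensRange.inv ≫ j := by simp
    rw [e, Category.assoc]
    exact (MorphismProperty.cancel_left_of_respectsIso (@SmoothOfRelativeDimension 1) _ _).2 hn
  choose V hV hS using key
  exact (IsZariskiLocalAtSource.iff_of_iSup_eq_top (P := @SmoothOfRelativeDimension 1) V
    (eq_top_iff.2 fun x _ => Opens.mem_iSup.2 ⟨x, hV x⟩)).2 hS

include hdim in
theorem isInvertible_omega : PicF.IsInvertible (Omega.sheaf f) := by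
  haveI := smoothOfRelativeDimension_one f hdim
  exact CurveDuality.isInvertible_of_rank_one (CanonDual.isFinLocFreeOfRank_omega f 1).1

theorem nonempty_fibre_omega (s : S) :
    Nonempty ((Scheme.Modules.pullback (f.fiberι s)).obj (Omega.sheaf f) ≅
      Omega.sheaf (f.fiber s ↘ Spec (CommRingCat.of (S.residueField s)))) :=
  GrpOmega.nonempty_omega_baseChange (CExt24.isPullback_fiber f s)

include hdim in
/-- The degree of a power of the differentials on a fibre. -/
theorem deg_fibre_omega_pow (g : ℕ) (s : S) (hg : Curv2.genus (S.residueField s) (f.fiber s) = g) (n : ℕ) :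
    Curv2.deg (S.residueField s) (f.fiber s) (CohIII.fiberMod f (CohB1.tensorPow (Omega.sheaf f) n) s) 1 =
      n * (2 * (g : ℤ) - 2) := by
  haveI := isIntegral_fibre f s
  haveI := CurveCohLib.isNoetherian_of_proper (k := S.residueField s) (X := f.fiber s)
  obtain ⟨e⟩ := nonempty_pullback_tensorPow (f.fiberι s) (L := Omega.sheaf f) n
  obtain ⟨e'⟩ := nonempty_fibre_omega f s
  have hinv := CurveBC.isInvertible_omega (S.residueField s) (f.fiber s) (hdim s) (h0_fibre f s)
  have hΩ : PicF.IsInvertible ((Scheme.Modules.pullback (f.fiberι s)).obj (Omega.sheaf f)) :=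
    isInvertible_of_iso e'.symm hinv
  have hdeg := (CurveBC.canonical_invariants (S.residueField s) (f.fiber s) (hdim s) (h0_fibre f s)).2
  rw [hg] at hdeg
  have h1 : ∀ {M N : (f.fiber s).Modules}, (M ≅ N) →
      Curv2.deg (S.residueField s) (f.fiber s) M 1 = Curv2.deg (S.residueField s) (f.fiber s) N 1 := by
    intro M N i
    unfold Curv2.deg
    rw [CurveCohLib.euler_congr (k := S.residueField s) i]
  rw [h1 e, CurveDual15.deg_tensorPow' (S.residueField s) (hdim s) hΩ n, h1 e', hdeg]

include hdim in
/-- A fibrewise nonspecial invertible module has no higher cohomology on the fibres. -/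
theorem subsingleton_fiberH_of_deg {L : X.Modules} (hL : PicF.IsInvertible L) (g : ℕ) (s : S)
    (hg : Curv2.genus (S.residueField s) (f.fiber s) = g)
    (hdeg : 2 * (g : ℤ) - 1 ≤ Curv2.deg (S.residueField s) (f.fiber s) (CohIII.fiberMod f L s) 1)
    (p : ℕ) (hp : 1 ≤ p) : Subsingleton (CohIII.fiberH f L s p) := by
  haveI := isIntegral_fibre f s
  rcases Nat.eq_or_lt_of_le hp with rfl | hp
  · exact CurveVA.subsingleton_h1_of_deg (S.residueField s) (hdim s) (h0_fibre f s)
      (PicClLib.isInvertible_pullback _ hL) (by rw [hg]; exact hdeg)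
  · exact CExt24.subsingleton_fiberH_of_dim_lt s (d := 1) (by rw [hdim s]; simp) hp

include hdim in
theorem goodNhd_zero {L : X.Modules} (hL : PicF.IsInvertible L)
    (h : ∀ s : S, Subsingleton (CohIII.fiberH f L s 1)) (s : S) : CExt24.GoodNhd f L 0 s := by
  have hqc : Coh.IsQCoh L := ProjUPX.isQCoh_of_isInvertible hL
  have hm : CExt24.HasModels f L := CExt24.hasModels f hqc
    (QCoh.isFP_of_isFinLocFree (H23.PullPush.isFinLocFree_of_isInvertible hL))
    (H23.Seesaw.isFlatOver_of_isInvertible f hL)
  have e : (0 : ℤ) = -((1 : ℕ) : ℤ) + 1 := by norm_num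
  rw [e]
  exact (CExt24.goodNhd_of_subsingleton hm hqc 1 (h s)).2

end Fibres

end Groth.Agent.LS17.RelCurve
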