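import Groth.Agent.CExt24.BCFibre
import Groth.Agent.CExt24.Models
import Groth.Agent.LimMor.CohVanishGen
import Groth.Agent.LS17.CurveH1

/-! Projectivity of the sections of a flat module on a family of curves from that of `H¹`. -/

noncomputable section

set_option linter.style.haveILetI false
set_option linter.unusedSectionVars false
set_option backward.isDefEq.respectTransparency false
set_option backward.isDefEq.respectTransparency.types false
set_option maxHeartbeats 1000000

universe u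

open CategoryTheory CategoryTheory.Limits AlgebraicGeometry TopologicalSpace Opposite
open Groth.Agent.FlatCxLib (Hom')

namespace Groth.Agent.LS17.RelCurve

open Groth.Agent

variable {R : Type u} [CommRing R] [IsNoetherianRing R] {X : Scheme.{u}} [X.Over (Spec (CommRingCat.of R))]
  [IsProper (X ↘ Spec (CommRingCat.of R))]

local notation "π" => (X ↘ Spec (CommRingCat.of R))

/-- Cohomology as a value of the model, linearly. -/
theorem nonempty_HH_equiv {F : X.Modules} (hF : Coh.IsQCoh F) {P : ChainComplex (ModuleCat.{u} R) ℤ}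
    (hP : CExt24.HasCechModel π F P) (p : ℕ) :
    Nonempty (Coh.HH X F p ≃ₗ[R] Hom' P (-(p : ℤ) + 1) (-(p : ℤ)) (-(p : ℤ) - 1)) := by
  have h : IsPullback (𝟙 X) π π (Spec.map (CommRingCat.ofHom (algebraMap R R))) := by
    rw [show CommRingCat.ofHom (algebraMap R R) = 𝟙 (CommRingCat.of R) from rfl, Spec.map_id]
    exact IsPullback.of_horiz_isIso ⟨by simp⟩
  obtain ⟨θ, -, h1, -, -⟩ := CExt24.exists_bc_core (B := R) h hF hP p
  let e : Coh.HH X F p ≃ₗ[R] CohIII.T P (-(p : ℤ)) (ModuleCat.of R R) :=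
    { θ with map_smul' := fun a x => h1 a x }
  exact ⟨e.trans (FlatCxLib.hom'EquivT rfl (show -(p : ℤ) - 1 + 1 = -(p : ℤ) by lia)).symm⟩

/-- On fibres of dimension one the model has no `H²`. -/
theorem dRank_two_eq_zero (hdim : ∀ s : Spec (CommRingCat.of R), topologicalKrullDim ↥(Scheme.Hom.fiber π s) ≤ 1)
    {F : X.Modules} (hF : Coh.IsQCoh F) {P : ChainComplex (ModuleCat.{u} R) ℤ}
    (hP : CExt24.HasCechModel π F P) (x : PrimeSpectrum R) : CohIII.dRank P (-((2 : ℕ) : ℤ)) x = 0 := by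
  suffices H : ∀ (K : Type u) [Field K] (φ : R →+* K), RingHom.ker φ = x.asIdeal →
      Module.finrank K ((CohIII.bcCx φ P).homology (-((2 : ℕ) : ℤ)) : ModuleCat.{u} K) = 0 by
    exact (QCoh.finrank_bc_eq_dRank (algebraMap R x.asIdeal.ResidueField) P x
      (Ideal.ker_algebraMap_residueField _) _).symm.trans (H _ _ (Ideal.ker_algebraMap_residueField _))
  intro K _ φ hφ
  letI : Algebra R K := φ.toAlgebra
  let t : Spec (CommRingCat.of K) ⟶ Spec (CommRingCat.of R) := Spec.map (CommRingCat.ofHom (algebraMap R K))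
  let Z := pullback π t
  let q : Z ⟶ Spec (CommRingCat.of K) := pullback.snd _ _
  have sq : IsPullback (pullback.fst π t) q π t := IsPullback.of_hasPullback _ _
  letI : Z.Over (Spec (CommRingCat.of K)) := ⟨q⟩
  haveI : IsProper (Z ↘ Spec (CommRingCat.of K)) := MorphismProperty.of_isPullback sq ‹IsProper π›
  have hdimZ : topologicalKrullDim Z ≤ 1 := by
    let s : ↥(Spec (CommRingCat.of K)) := Classical.arbitrary _
    refine le_of_eq_of_le ?_ ((LimMor.dim_fiber_baseChange sq s).trans_le (hdim (t s)))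
    have huniv : q.base ⁻¹' {s} = Set.univ := Set.eq_univ_of_forall fun z => Subsingleton.elim _ _
    refine Eq.symm ((q.fiberHomeo s).isHomeomorph.topologicalKrullDim_eq.trans ?_)
    exact (Homeomorph.setCongr huniv).trans (Homeomorph.Set.univ Z) |>.isHomeomorph.topologicalKrullDim_eq
  haveI := CurveCohLib.isNoetherian_of_proper (k := K) (X := Z)
  haveI : Subsingleton (Coh.HH Z ((Scheme.Modules.pullback (pullback.fst π t)).obj F) 2) :=
    CurveH1.subsingleton_HH_two K hdimZ _ 0
  obtain ⟨-, θ', -, -, -⟩ := CExt24.exists_bc_core (B := K) sq hF hP 2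
  obtain ⟨-, τ, -, -, -⟩ := CExt24.exists_tfun_equiv (B := K) P (-((2 : ℕ) : ℤ))
  have h := τ.toEquiv.subsingleton_congr.2 θ'.symm.toEquiv.subsingleton
  haveI := h
  have h0 : Module.finrank K ((CExt24.bcC R K P).homology (-((2 : ℕ) : ℤ)) : ModuleCat.{u} K) = 0 :=
    Module.finrank_zero_of_subsingleton
  exact h0

/-- `H⁰` is projective as soon as `H¹` is. -/
theorem projective_h0 (hdim : ∀ s : Spec (CommRingCat.of R), topologicalKrullDim ↥(Scheme.Hom.fiber π s) ≤ 1)
    {F : X.Modules} (hF : Coh.IsCoh F) (hfl : FlatMod.IsFlatOver π F)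
    (h1 : Module.Projective R (Coh.HH X F 1)) : Module.Projective R (Coh.HH X F 0) := by
  obtain ⟨P, hP, hC⟩ := CExt24.exists_model_of_noetherian π hF hfl
  have hg : ∀ x, CExt24.Good P (-((1 : ℕ) : ℤ)) x := fun x => by
    have h := (CExt24.good_of_dRank_eq_zero hP (dRank_two_eq_zero hdim hF.1 hC x)).2
    rwa [show -((2 : ℕ) : ℤ) + 1 = -((1 : ℕ) : ℤ) by norm_num] at h
  obtain ⟨hfp, hall⟩ := CExt24.homology_facts hP hg
  obtain ⟨e⟩ := nonempty_HH_equiv hF.1 hC 1
  haveI := Module.Projective.of_equiv (M := Coh.HH X F 1) e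
  haveI := hfp
  have hg0 : ∀ x, CExt24.Good P (-((0 : ℕ) : ℤ)) x := fun x => by
    have h := (hall x).1.2 ((Module.freeLocus_eq_univ (R := R)
      (M := Hom' P (-((1 : ℕ) : ℤ) + 1) (-((1 : ℕ) : ℤ)) (-((1 : ℕ) : ℤ) - 1))).ge (Set.mem_univ x))
    rwa [show -((1 : ℕ) : ℤ) + 1 = -((0 : ℕ) : ℤ) by norm_num] at h
  obtain ⟨hfp0, hall0⟩ := CExt24.homology_facts hP hg0
  haveI := hfp0
  haveI : Module.Projective R (Hom' P (-((0 : ℕ) : ℤ) + 1) (-((0 : ℕ) : ℤ)) (-((0 : ℕ) : ℤ) - 1)) :=
    Module.freeLocus_eq_univ_iff.1 (Set.eq_univ_of_forall fun x =>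
      (hall0 x).1.1 (CExt24.good_top hP (by norm_num) x))
  obtain ⟨e0⟩ := nonempty_HH_equiv hF.1 hC 0
  exact Module.Projective.of_equiv e0.symm

end Groth.Agent.LS17.RelCurve
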