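import Groth.Agent.LS17.RelCurve.Basic
import Groth.Agent.LS17.NefH1.Main
import Groth.Agent.PicFRel.BcZero

/-! The first direct image of the structure sheaf of a smooth family of curves. -/

noncomputable section

set_option linter.style.haveILetI false
set_option linter.unusedSectionVars false
set_option backward.isDefEq.respectTransparency false
set_option backward.isDefEq.respectTransparency.types false
set_option maxHeartbeats 800000

universe u

open CategoryTheory CategoryTheory.Limits AlgebraicGeometry TopologicalSpace Opposite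

namespace Groth.Agent.LS17.RelCurve

open Groth.Agent

attribute [local instance] fibreOver

variable {X S : Scheme.{u}} (f : X ⟶ S)

/-- A locally free direct image has the rank of the fibre cohomology. -/
theorem isFinLocFreeOfRank_Rpush [HasInjectiveResolutions X.Modules] [QuasiCompact f] [QuasiSeparated f]
    {F : X.Modules} (hF : Coh.IsQCoh F) (p : ℕ) (n : ℕ)
    (hg : ∀ z, CExt24.GoodNhd f F (-(p : ℤ)) z ∧ CExt24.GoodNhd f F (-(p : ℤ) + 1) z)
    (hn : ∀ z, CohIII.fiberRank f F p z = n) :
    FlatMod.IsFinLocFreeOfRank n ((Coh.Rpush f p).obj F) := by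
  intro s
  have h := CExt24.isFinLocFree_Rpush_restrict hF p (⊤ : S.Opens) fun z _ => hg z
  obtain ⟨W, m, -, hsW, ⟨e⟩⟩ := CExt24.free_restrict_of_open h (show s ∈ (⊤ : S.Opens) from trivial)
  obtain ⟨V, hV, P, hle, hsV, hP, hgood⟩ := (hg s).1.exists_le hF hsW
  obtain ⟨-, hall⟩ := CExt24.homology_facts hP.1 hgood
  obtain ⟨e'⟩ := CExt24.nonempty_sections_equiv hF hP p
  obtain ⟨l⟩ := QCoh.free_sections hV hle e
  have hrank := (hall (hV.primeIdealOf ⟨s, hsV⟩)).2
  rw [← CExt24.fiberRank_eq_dRank f hV hsV hF hP.2, hn] at hrank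
  let x := hV.primeIdealOf ⟨s, hsV⟩
  let L := TensorProduct.AlgebraTensorModule.congr (LinearEquiv.refl x.asIdeal.ResidueField x.asIdeal.ResidueField)
    (e'.symm.trans l)
  unfold FlatCxLib.fibreRank at hrank
  haveI : Nontrivial Γ(S, V) := nontrivial_of_ne 0 1 fun h => x.isPrime.ne_top ((Ideal.eq_top_iff_one _).2 (h ▸ x.asIdeal.zero_mem))
  rw [L.finrank_eq, Module.finrank_baseChange, Module.finrank_finsupp_self, Fintype.card_ulift,
    Fintype.card_fin] at hrank
  exact ⟨W, hsW, ⟨hrank ▸ e⟩⟩

section Structure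

variable [IsProper f] [Smooth f] [GeometricallyConnected f]
  (hdim : ∀ s : S, topologicalKrullDim ↥(f.fiber s) = 1)

theorem bijective_appTop_fibre (s : S) : Function.Bijective (f.fiberToSpecResidueField s).appTop := by
  haveI := isIntegral_fibre f s
  exact CurveBC.bijective_appTop (S.residueField s) (f.fiber s) (h0_fibre f s)

include hdim in
/-- `R¹ f_* O` is locally free of rank the genus. -/
theorem isFinLocFreeOfRank_R1 [HasInjectiveResolutions X.Modules] (g : ℕ)
    (hgen : ∀ s : S, Curv2.genus (S.residueField s) (f.fiber s) = g) :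
    FlatMod.IsFinLocFreeOfRank g ((Coh.Rpush f 1).obj (Coh.structureModule X)) := by
  have hO : Coh.IsQCoh (Coh.structureModule X) := QCoh.isQCoh_structureModule
  have hinv : PicF.IsInvertible (Coh.structureModule X) := InvX.isInvertible_structureModule
  have hm : CExt24.HasModels f (Coh.structureModule X) := CExt24.hasModels f hO
    (QCoh.isFP_of_isFinLocFree (H23.PullPush.isFinLocFree_of_isInvertible hinv))
    (H23.Seesaw.isFlatOver_of_isInvertible f hinv)
  refine isFinLocFreeOfRank_Rpush f hO 1 g (fun z => ⟨?_, ?_⟩) fun z => ?_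
  · have htwo : Subsingleton (CohIII.fiberH f (Coh.structureModule X) z 2) :=
      CExt24.subsingleton_fiberH_of_dim_lt z (d := 1) (by rw [hdim z]; simp) one_lt_two
    have e : (-((1 : ℕ) : ℤ)) = -((2 : ℕ) : ℤ) + 1 := by norm_num
    rw [e]
    exact (CExt24.goodNhd_of_subsingleton hm hO 2 htwo).2
  · have e : (-((1 : ℕ) : ℤ) + 1) = 0 := by norm_num
    rw [e, ← CExt24.epi_fibre_bc0_iff_goodNhd hm hO z]
    refine PicFRel.BcZero.epi_bc0_of_frame z (Coh.structureModule X) ⊤ trivial
      (show Γ(Coh.structureModule X, f ⁻¹ᵁ ⊤) from (1 : Γ(X, f ⁻¹ᵁ ⊤))) ?_ (bijective_appTop_fibre f z)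
    exact InvX.isFrame_pullElt _ (InvX.isFrame_one _)
  · obtain ⟨c⟩ := PicClLib.nonempty_pullback_structureModule (f.fiberι z)
    rw [← hgen z]
    exact LS17.NefH1.finrank_HH_congr (k := S.residueField z) c 1

end Structure

end Groth.Agent.LS17.RelCurve
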